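import Groth.Agent.ProjMor.Segre
import Groth.Agent.TMul.Pullback
import Groth.Agent.TMul.GenLocus
import Groth.Agent.TMul.AmpleBasis
import Groth.Agent.TMul.RelAmple
import Groth.Agent.CurveRR.Zero
import Groth.Agent.Castel.PicDescent
import Groth.Agent.S4413

/-!
A connected proper subscheme of a fibre is mapped to a point of projective space iff the twisting sheaf is trivial on it.
-/

set_option autoImplicit false
set_option backward.isDefEq.respectTransparency false
set_option backward.isDefEq.respectTransparency.types false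
set_option linter.style.haveILetI false

universe u

open CategoryTheory CategoryTheory.Limits AlgebraicGeometry TopologicalSpace Opposite

noncomputable section

namespace Groth.Agent.ConstTwist

variable {K : Type u} [Field K] {Z : Scheme.{u}} (t : Z ⟶ Spec (CommRingCat.of K)) [IsProper t] [ConnectedSpace Z]

include t in
/-- The global functions of a connected proper scheme over a field have one prime. -/
theorem range_toSpecΓ_subsingleton : (Set.range Z.toSpecΓ).Subsingleton := by
  letI : Z.Over (Spec (CommRingCat.of K)) := ⟨t⟩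
  haveI : IsProper (Z ↘ Spec (CommRingCat.of K)) := inferInstanceAs (IsProper t)
  haveI := CurveRR.isNoetherian_of_proper K Z
  letI : Algebra K Γ(Z, ⊤) := (Coh.toGlobal (Z ↘ Spec (CommRingCat.of K))).toAlgebra
  haveI : Module.Finite K (Coh.HH Z (Coh.structureModule Z) 0) :=
    CohFinite.finite_proper (A := K) Z (Coh.structureModule Z)
      (CurveRR.isCoh_of_inv TMul.isInvertible_structureModule) 0
  haveI : Module.Finite K Γ(Z, ⊤) := by
    letI := CurveRR.secMod K (Coh.structureModule Z) ⊤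
    haveI : Module.Finite K Γ(Coh.structureModule Z, ⊤) := Module.Finite.equiv (CurveRR.secH0 (k := K) _).symm
    let l : Γ(Coh.structureModule Z, ⊤) →ₗ[K] Γ(Z, ⊤) :=
      { toFun := fun x => x
        map_add' := fun _ _ => rfl
        map_smul' := fun r x => by
          rw [CurveRR.smul_def, RingHom.id_apply, CurveRR.cst, Algebra.smul_def]
          show (Groth.Agent.QC.resO Z (le_top : (⊤ : Z.Opens) ≤ ⊤) _ : Γ(Z, ⊤)) * _ = _
          rw [Groth.Agent.QC.resO_self]
          rfl }
    exact Module.Finite.of_surjective l fun x => ⟨x, rfl⟩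
  haveI : IsArtinianRing Γ(Z, ⊤) := IsArtinianRing.of_finite K Γ(Z, ⊤)
  haveI : DiscreteTopology (Spec Γ(Z, ⊤)) := inferInstanceAs (DiscreteTopology (PrimeSpectrum Γ(Z, ⊤)))
  exact (isPreconnected_range Z.toSpecΓ.continuous).subsingleton

include t in
/-- A morphism into an affine scheme is constant. -/
theorem subsingleton_range_of_affine {W : Scheme.{u}} [IsAffine W] (f : Z ⟶ W) :
    (Set.range f).Subsingleton := by
  have h : f = Z.toSpecΓ ≫ Spec.map f.appTop ≫ W.isoSpec.inv := by
    rw [← Category.assoc, ← Scheme.toSpecΓ_naturality, Category.assoc, ← Scheme.isoSpec_hom,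
      Iso.hom_inv_id, Category.comp_id]
  rw [h]
  rintro _ ⟨a, rfl⟩ _ ⟨b, rfl⟩
  simp only [Scheme.Hom.comp_apply]
  rw [range_toSpecΓ_subsingleton t ⟨a, rfl⟩ ⟨b, rfl⟩]

include t in
/-- A section of the structure sheaf generating at one point generates everywhere. -/
theorem genLocus_eq_top (s : Coh.structureModule Z ⟶ Coh.structureModule Z) {z : Z}
    (hz : z ∈ CohB1.genLocus _ s) : CohB1.genLocus _ s = ⊤ := by
  let f : Γ(Z, ⊤) := (TMul.val s ⊤ : Γ(Coh.structureModule Z, ⊤))
  obtain ⟨U, hzU, hU⟩ := (TMul.mem_genLocus_iff s).1 hz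
  have hzf : z ∈ Z.basicOpen f := by
    obtain ⟨c, hc⟩ := (hU U le_rfl).2 (1 : Γ(Z, U))
    rw [Groth.Agent.QC.res_self, ← TMul.res_val s (le_top : U ≤ ⊤)] at hc
    have hu : IsUnit ((Z.presheaf.map (homOfLE (le_top : U ≤ ⊤)).op).hom f) :=
      IsUnit.of_mul_eq_one_right c hc
    have h2 := Z.basicOpen_of_isUnit hu
    rw [Z.basicOpen_res] at h2
    exact (h2.symm.le hzU).2
  have hall : Z.basicOpen f = ⊤ := by
    refine top_le_iff.1 fun w _ => ?_
    have e := range_toSpecΓ_subsingleton t ⟨z, rfl⟩ ⟨w, rfl⟩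
    rw [← Scheme.toSpecΓ_preimage_basicOpen] at hzf ⊢
    change Z.toSpecΓ z ∈ PrimeSpectrum.basicOpen f at hzf
    show Z.toSpecΓ w ∈ PrimeSpectrum.basicOpen f
    rw [← e]
    exact hzf
  have hfu : IsUnit f := by
    refine RingedSpace.isUnit_of_isUnit_germ _ ⊤ f fun x hx => ?_
    exact (Z.mem_basicOpen f x hx).1 (hall.symm.le hx)
  refine top_le_iff.1 (TMul.le_genLocus s ?_)
  have h := TMul.isGen_smul (TMul.isGen_one (X := Z) ⊤) hfu
  have he : f • (1 : Γ(Z, ⊤)) = TMul.val s ⊤ := mul_one (M := Γ(Z, ⊤)) f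
  exact he ▸ h

include t in
theorem subsingleton_range {P : Scheme.{u}} (u : Z ⟶ P) {M : P.Modules} (hM : CohB1.IsAmple M)
    (e : (Scheme.Modules.pullback u).obj M ≅ Coh.structureModule Z) : (Set.range u).Subsingleton := by
  obtain ⟨z⟩ : Nonempty Z := inferInstance
  obtain ⟨n, s, hs, haff⟩ := hM.2.2 (u z)
  have hp : ∀ m : ℕ, Nonempty (CohB1.tensorPow ((Scheme.Modules.pullback u).obj M) m ≅ Coh.structureModule Z) := by
    intro m
    induction m with
    | zero => exact ⟨Iso.refl _⟩
    | succ m ih =>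
      obtain ⟨i⟩ := ih
      exact ⟨PicGrp.tensorModIso i e ≪≫ SecTwist.unitorR _⟩
  obtain ⟨a⟩ := TMul.nonempty_pullPowIso u M (n + 1)
  obtain ⟨b⟩ := hp (n + 1)
  let L' := CohB1.tensorPow M (n + 1)
  let q : (Scheme.Modules.pullback u).obj L' ≅ Coh.structureModule Z := a.symm ≪≫ b
  let e₀ := (PicLoc.pullbackStructureIso u).symm
  have h1 := Groth.Agent.S4413.result u L' (TMul.isInvertible_tensorPow hM.1 (n + 1)) s e₀
  rw [← TMul.genLocus_comp _ q.hom] at h1
  have htop := genLocus_eq_top t _ (z := z) (h1.symm.le (show z ∈ u ⁻¹ᵁ CohB1.genLocus L' s from hs))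
  have hr : Set.range u ⊆ Set.range (CohB1.genLocus L' s).ι := by
    rw [Scheme.Opens.range_ι]
    rintro _ ⟨w, rfl⟩
    exact h1.le (htop.symm.le (Set.mem_univ w))
  haveI : IsAffine (CohB1.genLocus L' s) := haff
  let u' := IsOpenImmersion.lift (CohB1.genLocus L' s).ι u hr
  rintro _ ⟨v, rfl⟩ _ ⟨w, rfl⟩
  rw [← IsOpenImmersion.lift_fac (CohB1.genLocus L' s).ι u hr, Scheme.Hom.comp_apply, Scheme.Hom.comp_apply]
  exact congrArg _ (subsingleton_range_of_affine t u' ⟨v, rfl⟩ ⟨w, rfl⟩)

end Groth.Agent.ConstTwist
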